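import Cfsg.Agent.Lib.RC.Basic

/-!
# Class sizes of elements of prime power order not divisible by `4`: definitions
-/

set_option autoImplicit false

namespace CfsgLib.SF

open Subgroup Cfsg CfsgLib.FT CfsgLib.FT.BGN CfsgLib.GW
open CfsgLib.RC (Two)

variable {G : Type*} [Group G]

/-- Elements of prime power order. -/
def PP (x : G) : Prop := ∃ r k : ℕ, r.Prime ∧ orderOf x = r ^ k

/-- `4` divides no class size of an element of prime power order. -/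
def H4 (G : Type*) [Group G] : Prop := ∀ x : G, PP x → ¬ 4 ∣ (𝐂[x]).index

/-- `S ⊓ K` has index at most `2` in `S`. -/
def Idx2 (S K : Subgroup G) : Prop := ∀ a ∈ S, ∀ b ∈ S, a ∉ K → b ∉ K → a * b ∈ K

/-- Sylow `2`-subgroups. -/
abbrev Syl (S : Subgroup G) : Prop := IsSylowIn 2 S ⊤

/-- The centre of `S`. -/
abbrev Zc (S : Subgroup G) : Subgroup G := S ⊓ 𝐂(S)

/-- A good element of maximal order. -/
structure Gd (m : ℕ) (S : Subgroup G) (a : G) : Prop where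
  mem : a ∈ S
  ne : a ^ (2 * m) ≠ 1
  idx : Idx2 S 𝐂[a]

/-- A pair of commuting involutions of type II. -/
structure Cf (m : ℕ) (z t : G) (R : Subgroup G) : Prop where
  oz : orderOf z = 2
  ot : orderOf t = 2
  comm : t ∈ 𝐂[z]
  syl : IsSylowIn 2 R (𝐂[z] ⊓ 𝐂[t])
  ez : ∃ y : G, Two y ∧ y ^ (2 * m) = z
  et : ∃ y : G, Two y ∧ y ^ (2 * m) = t
  nz : ∀ y : G, Two y → y ^ (2 * m) = z → y ∉ 𝐂[t]
  nt : ∀ y : G, Two y → y ^ (2 * m) = t → y ∉ 𝐂[z]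

/-- The standing hypothesis. -/
structure Hy (G : Type*) [Group G] (m : ℕ) : Prop where
  h4 : H4 G
  syl : ∀ (y : G) (U : Subgroup G), Two y → IsPGroup 2 U → U ≤ 𝐂[y] →
    ∃ S, Syl S ∧ U ≤ S ∧ y ∈ S ∧ Idx2 S 𝐂[y]
  ex : ∀ x : G, Two x → x ^ (4 * m) = 1
  f2 : ∀ (Y : Subgroup G) (y : G), IsPGroup 2 Y → y ∈ Y → Y ≤ 𝐂[y ^ (2 * m)]
  t2 : ∀ y : G, Two y → y ^ (2 * m) ≠ 1 → ∃ t R, Cf m (y ^ (2 * m)) t R

/-- A frame: a pair of type II with Sylow subgroups and good elements. -/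
structure Fr (m : ℕ) (z t : G) (R S : Subgroup G) (a : G) (T : Subgroup G) (b : G) : Prop where
  cf : Cf m z t R
  sS : Syl S
  RS : R ≤ S
  ga : Gd m S a
  az : a ^ (2 * m) = z
  sT : Syl T
  RT : R ≤ T
  gb : Gd m T b
  bt : b ^ (2 * m) = t

/-- The subgroup `D` of a frame. -/
abbrev DD (R : Subgroup G) (a b : G) : Subgroup G := R ⊓ 𝐂[a] ⊓ 𝐂[b]

/-- The consequences of a frame (one side). -/
structure Fx (m : ℕ) (z t : G) (R S : Subgroup G) (a b : G) : Prop where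
  Sz : S ≤ 𝐂[z]
  cent : S ⊓ 𝐂[t] = R
  dec : ∀ r ∈ R, ∃ δ ∈ DD R a b, r = δ ∨ r = z * δ ∨ r = t * δ ∨ r = z * t * δ
  zD : z ∉ DD R a b
  tD : t ∉ DD R a b
  ztD : z * t ∉ DD R a b
  c : ∃ d ∈ DD R a b, d ∈ Zc S ∧ d * d = 1 ∧ a ^ m * t * (a ^ m)⁻¹ = t * (z * d)

/-- The structure of the Sylow `2`-subgroup. -/
structure St (m : ℕ) (S : Subgroup G) (a t : G) : Prop where
  syl : Syl S
  aS : a ∈ S
  tS : t ∈ S
  t2 : t * t = 1
  gen : ∀ s ∈ S, ∃ i : ℕ, ∃ ζ ∈ Zc S, s = a ^ i * ζ ∨ s = a ^ i * ζ * t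
  nrm : a * (t * a * t⁻¹) ∈ Zc S
  pow : a ^ (2 * m) ∈ Zc S
  a4 : a ^ (4 * m) = 1
  ne : a ^ (2 * m) ≠ 1
  gt : a ^ m ∉ 𝐂[t]
  nsq : ∀ ζ ∈ Zc S, ζ * ζ ≠ a ^ (2 * m)

/-- Centralizers of involutions that are central in all Sylow subgroups containing them are
`2`-nilpotent. -/
def Inh (G : Type*) [Group G] : Prop :=
  ∀ d : G, orderOf d = 2 → (∀ S : Subgroup G, Syl S → d ∈ S → S ≤ 𝐂[d]) →
    HasNormalPComplement 2 𝐂[d]

/-- The exponent lemma. -/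
def F2 (H : Type*) [Group H] : Prop :=
  ∀ n : ℕ, Even n → (∀ x : H, Two x → x ^ (2 * n) = 1) → ∀ (S : Subgroup H) (b : H), Syl S →
    b ∈ S → Idx2 S 𝐂[b] → ∀ (Y : Subgroup H) (y : H), IsPGroup 2 Y → y ∈ Y → y ^ n = b ^ n →
      Y ≤ 𝐂[b ^ n]

/-- All good elements of `S` have centralizer `M` in `S`, which is also the centralizer of their
`m`-th powers. -/
structure Com (m : ℕ) (S M : Subgroup G) : Prop where
  syl : Syl S
  ne : M ≠ S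
  ex : ∃ a, Gd m S a
  eq : ∀ a, Gd m S a → S ⊓ 𝐂[a] = M ∧ S ⊓ 𝐂[a ^ m] = M

/-- The subgroup generated by the good elements. -/
def AA (m : ℕ) (S : Subgroup G) : Subgroup G := closure {a | Gd m S a}

/-- The subgroup generated by the `m`-th powers of the good elements. -/
def A1 (m : ℕ) (S : Subgroup G) : Subgroup G := closure {g | ∃ a, Gd m S a ∧ a ^ m = g}

/-- Facts on `AA` and `A1` for even `m`. -/
structure Ev (m : ℕ) (S : Subgroup G) : Prop where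
  syl : Syl S
  ex : ∃ a, Gd m S a
  /-- good elements are not central and have the same centralizer as their `m`-th power -/
  cm : ∀ a, Gd m S a → S ⊓ 𝐂[a ^ m] = S ⊓ 𝐂[a] ∧ ¬ S ≤ 𝐂[a]
  comm : AA m S ≤ 𝐂(AA m S)
  cent : S ⊓ 𝐂(A1 m S) = S ⊓ 𝐂(AA m S)
  /-- Sylow subgroups over `AA` lie in `S * C(A1)` -/
  act : ∀ T, Syl T → AA m S ≤ T → T ≤ 𝐍(A1 m S) ∧ T ≤ S ⊔ 𝐂(A1 m S) ∧ S ≤ T ⊔ 𝐂(A1 m S) ∧
    IsSylowIn 2 (T ⊓ 𝐂(A1 m S)) 𝐂(A1 m S)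

theorem Idx2.sq {S K : Subgroup G} (h : Idx2 S K) {a : G} (ha : a ∈ S) : a * a ∈ K := by
  by_cases e : a ∈ K
  · exact K.mul_mem e e
  · exact h a ha a ha e e

theorem Idx2.pow {S K : Subgroup G} (h : Idx2 S K) {a : G} (ha : a ∈ S) {n : ℕ} (hn : Even n) :
    a ^ n ∈ K := by
  obtain ⟨k, rfl⟩ := hn
  rw [← two_mul, pow_mul, pow_two]
  exact K.pow_mem (h.sq ha) k

theorem Idx2.mono {S K S' K' : Subgroup G} (h : Idx2 S K) (h1 : S' ≤ S) (h2 : K ≤ K') :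
    Idx2 S' K' := fun a ha b hb e1 e2 =>
  h2 (h a (h1 ha) b (h1 hb) (fun e => e1 (h2 e)) fun e => e2 (h2 e))

theorem Idx2.conj_mem {S K : Subgroup G} (h : Idx2 S K) {s k : G} (hs : s ∈ S) (hk : k ∈ S)
    (e : k ∈ K) : s * k * s⁻¹ ∈ K := by
  by_cases e1 : s ∈ K
  · exact K.mul_mem (K.mul_mem e1 e) (K.inv_mem e1)
  · exact h _ (S.mul_mem hs hk) _ (S.inv_mem hs) (by rwa [K.mul_mem_cancel_right e])
      (by rwa [inv_mem_iff])

theorem Idx2.map_conj {S K : Subgroup G} (h : Idx2 S K) (g : G) : Idx2 (g •ᶜ S) (g •ᶜ K) := by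
  rintro _ ⟨a, ha, rfl⟩ _ ⟨b, hb, rfl⟩ e1 e2
  rw [← map_mul]
  exact mem_map_of_mem _ (h a ha b hb (fun e => e1 (mem_map_of_mem _ e))
    fun e => e2 (mem_map_of_mem _ e))

theorem Cf.symm {m : ℕ} {z t : G} {R : Subgroup G} (h : Cf m z t R) : Cf m t z R :=
  ⟨h.ot, h.oz, U4.mem_cent1_comm.1 h.comm, inf_comm 𝐂[z] 𝐂[t] ▸ h.syl, h.et, h.ez, h.nt, h.nz⟩

theorem Fr.symm {m : ℕ} {z t a b : G} {R S T : Subgroup G} (h : Fr m z t R S a T b) :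
    Fr m t z R T b S a :=
  ⟨h.cf.symm, h.sT, h.RT, h.gb, h.bt, h.sS, h.RS, h.ga, h.az⟩

theorem DD_comm (R : Subgroup G) (a b : G) : DD R a b = DD R b a := inf_right_comm _ _ _

end CfsgLib.SF
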